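import Groth.Agent.Lib.FMTrans15.Basic
import Groth.Agent.Lib.FinSupp15.Main
import Groth.Agent.Lib.PolSym15.Basic
import Groth.Prelude.Def_DualFM

/-!
# The Fourier–Mukai functor exchanges translations and twists
-/

set_option autoImplicit false
set_option linter.all false
set_option backward.isDefEq.respectTransparency false
set_option maxHeartbeats 2000000

universe u

open CategoryTheory CategoryTheory.Limits AlgebraicGeometry
open MonoidalCategory CartesianMonoidalCategory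
open GrothLib.Ample GrothLib.Cube
open scoped MonObj

attribute [local instance] HasDerivedCategory.standard

noncomputable section

namespace GrothLib.FMTrans15

variable {k : Type u} [Field k] {A At : Over (Spec (CommRingCat.of k))}

/-- Translation by a rational point. -/
abbrev tr [GrpObj A] (x : 𝟙_ (Over (Spec (CommRingCat.of k))) ⟶ A) : A ⟶ A := 𝟙 A * (toUnit A ≫ x)

theorem tr_comp [GrpObj A] (x : 𝟙_ (Over (Spec (CommRingCat.of k))) ⟶ A) : tr x ≫ tr x⁻¹ = 𝟙 A := by
  rw [tr, tr, MonObj.comp_mul, Category.comp_id, ← Category.assoc, comp_toUnit, mul_assoc, ← MonObj.comp_mul,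
    mul_inv_cancel, MonObj.comp_one, mul_one]

theorem tr_comp' [GrpObj A] (x : 𝟙_ (Over (Spec (CommRingCat.of k))) ⟶ A) : tr x⁻¹ ≫ tr x = 𝟙 A := by
  have h := tr_comp x⁻¹
  rwa [inv_inv] at h

theorem left_inv {X Y : Over (Spec (CommRingCat.of k))} {f : X ⟶ Y} {g : Y ⟶ X} (h : f ≫ g = 𝟙 X) :
    f.left ≫ g.left = 𝟙 X.left := by
  rw [← Over.comp_left, h, Over.id_left]

section

variable [GrpObj A] [IsProper A.hom] [Smooth A.hom] [GeometricallyConnected A.hom]
  [GrpObj At] [IsProper At.hom] [Smooth At.hom] [GeometricallyConnected At.hom]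
  {φ : ∀ T : Over (Spec (CommRingCat.of k)), PicF.Cl (PicF.XT A.hom T) → (T ⟶ At)}
  {P : (A ⊗ At).left.Modules}

/-- Translating the second variable of a Poincaré bundle. -/
theorem nonempty_pull_tr_right (hφ : AbDual.IsDualAV Scheme.fppfPrecoverage A At φ) (hP : PicF.IsInvertible P) (hPξ : AbDual.IsPoincareCl A At φ (PicF.cl P))
    (x : 𝟙_ (Over (Spec (CommRingCat.of k))) ⟶ At) :
    Nonempty ((Scheme.Modules.pullback (A ◁ tr x).left).obj P ≅
      ((DCoh.tensorBi (X := (A ⊗ At).left)).obj ((Scheme.Modules.pullback (fst A At).left).obj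
        ((Scheme.Modules.pullback (lift (𝟙 A) (toUnit A ≫ x)).left).obj P))).obj P) := by
  haveI := Dual.geometricallyIntegral_of_abScheme A
  have hc := hasCls_clsMod (X := (A ⊗ At).left) hP
  have hu := PolSym15.isUniv_of_isPoincareCl hc hPξ
  have e : A ◁ (toUnit At ≫ x) = fst A At ≫ lift (𝟙 A) (toUnit A ≫ x) := by
    refine CartesianMonoidalCategory.hom_ext _ _ ?_ ?_
    · rw [whiskerLeft_fst, Category.assoc, lift_fst, Category.comp_id]
    · rw [whiskerLeft_snd, Category.assoc, lift_snd, ← Category.assoc, ← Category.assoc, comp_toUnit, comp_toUnit]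
  have h1 : pull (A ◁ tr x).left (clsMod hP) =
      pull (fst A At).left (pull (lift (𝟙 A) (toUnit A ≫ x)).left (clsMod hP)) * clsMod hP := by
    rw [tr, PolSym15.pull_whisker_mul hu hφ, e, MonoidalCategory.whiskerLeft_id, ← CubeRel26.pull_pull_over, Over.id_left,
      mul_comm]
    congr 1
    exact Cube.pull_id _
  exact (hc.pullback _).iso (((hc.pullback _).pullback _).tensor hc) h1

/-- Translating the first variable of a Poincaré bundle. -/
theorem nonempty_pull_tr_left (hP : PicF.IsInvertible P) (hPξ : AbDual.IsPoincareCl A At φ (PicF.cl P))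
    (x : 𝟙_ (Over (Spec (CommRingCat.of k))) ⟶ A) :
    Nonempty ((Scheme.Modules.pullback (tr x⁻¹ ▷ At).left).obj P ≅
      ((DCoh.tensorBi (X := (A ⊗ At).left)).obj P).obj ((Scheme.Modules.pullback (snd A At).left).obj
        ((Scheme.Modules.pullback (lift (toUnit At ≫ x⁻¹) (𝟙 At)).left).obj P))) := by
  haveI := Dual.geometricallyIntegral_of_abScheme A
  have hc := hasCls_clsMod (X := (A ⊗ At).left) hP
  have hu := PolSym15.isUniv_of_isPoincareCl hc hPξ
  have e : tr x⁻¹ ▷ At = lift (fst A At * (toUnit (A ⊗ At) ≫ x⁻¹)) (snd A At) := by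
    refine CartesianMonoidalCategory.hom_ext _ _ ?_ ?_
    · rw [whiskerRight_fst, lift_fst, tr, MonObj.comp_mul, Category.comp_id, ← Category.assoc, comp_toUnit]
    · rw [whiskerRight_snd, lift_snd]
  have h1 : pull (tr x⁻¹ ▷ At).left (clsMod hP) =
      clsMod hP * pull (snd A At).left (pull (lift (toUnit At ≫ x⁻¹) (𝟙 At)).left (clsMod hP)) := by
    rw [e]
    change PolSym15.pair (clsMod hP) (fst A At * (toUnit (A ⊗ At) ≫ x⁻¹)) (snd A At) = _
    rw [PolSym15.pair_mul_left hu]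
    congr 1
    · rw [PolSym15.pair, lift_fst_snd, Over.id_left]
      exact Cube.pull_id _
    · rw [PolSym15.pair, CubeRel26.pull_pull_over, comp_lift, Category.comp_id, ← Category.assoc, comp_toUnit]
  exact (hc.pullback _).iso (hc.tensor ((hc.pullback _).pullback _)) h1

end

/-- Acquire the instances of an exact functor. -/
theorem Exact.comp {C D E : Type*} [Category C] [Abelian C] [HasDerivedCategory C] [Category D] [Abelian D]
    [HasDerivedCategory D] [Category E] [Abelian E] [HasDerivedCategory E] {F : C ⥤ D} {G : D ⥤ E}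
    (hF : Exact F) (hG : Exact G) : Exact (F ⋙ G) := by
  obtain ⟨h1, h2, h3⟩ := hF
  obtain ⟨h4, h5, h6⟩ := hG
  haveI := h1
  haveI := h2
  haveI := h3
  haveI := h4
  haveI := h5
  haveI := h6
  exact ⟨inferInstance, comp_preservesFiniteLimits _ _, comp_preservesFiniteColimits _ _⟩

section

variable [GrpObj A] [IsProper A.hom] [Smooth A.hom] [GeometricallyConnected A.hom]
  [GrpObj At] [IsProper At.hom] [Smooth At.hom] [GeometricallyConnected At.hom]
  {φ : ∀ T : Over (Spec (CommRingCat.of k)), PicF.Cl (PicF.XT A.hom T) → (T ⟶ At)}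
  {P : (A ⊗ At).left.Modules}

/-- Inverse invertible modules. -/
theorem exists_tensor_inverse {X : Scheme.{u}} {N : X.Modules} (hN : PicF.IsInvertible N) :
    ∃ N' : X.Modules, PicF.IsInvertible N' ∧
      Nonempty (((DCoh.tensorBi (X := X)).obj N).obj N' ≅ Coh.structureModule X) ∧
      Nonempty (((DCoh.tensorBi (X := X)).obj N').obj N ≅ Coh.structureModule X) := by
  have h := Dual.hasCls_rep ((clsMod hN)⁻¹)
  exact ⟨_, h.1, ((hasCls_clsMod hN).tensor h).iso (hasCls_structureModule X) (mul_inv_cancel _),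
    (h.tensor (hasCls_clsMod hN)).iso (hasCls_structureModule X) (inv_mul_cancel _)⟩

theorem nonempty_twist_translate (hφ : AbDual.IsDualAV Scheme.fppfPrecoverage A At φ) (hP : PicF.IsInvertible P)
    (hPξ : AbDual.IsPoincareCl A At φ (PicF.cl P)) (x : 𝟙_ (Over (Spec (CommRingCat.of k))) ⟶ At)
    [DCoh.HasLpull (fst A At).left] [DCoh.HasLTensorMod P] [DCoh.HasRpush (snd A At).left]
    [DCoh.HasLTensorMod ((Scheme.Modules.pullback (lift (𝟙 A) (toUnit A ≫ x)).left).obj P)]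
    [DCoh.HasLpull (tr x).left] :
    Nonempty (DCoh.LTensorMod ((Scheme.Modules.pullback (lift (𝟙 A) (toUnit A ≫ x)).left).obj P) ⋙
        (DCoh.Lpull (fst A At).left ⋙ DCoh.LTensorMod P ⋙ DCoh.Rpush (snd A At).left) ≅
      (DCoh.Lpull (fst A At).left ⋙ DCoh.LTensorMod P ⋙ DCoh.Rpush (snd A At).left) ⋙
        DCoh.Lpull (tr x).left) := by
  let p : (A ⊗ At).left ⟶ A.left := (fst A At).left
  let q : (A ⊗ At).left ⟶ At.left := (snd A At).left
  let T := (tr x).left
  let Ti := (tr x⁻¹).left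
  let T' := (A ◁ tr x).left
  let Ti' := (A ◁ tr x⁻¹).left
  let Px := (Scheme.Modules.pullback (lift (𝟙 A) (toUnit A ≫ x)).left).obj P
  have hT1 : T ≫ Ti = 𝟙 _ := left_inv (tr_comp x)
  have hT2 : Ti ≫ T = 𝟙 _ := left_inv (tr_comp' x)
  have hT1' : T' ≫ Ti' = 𝟙 _ := left_inv (by rw [← MonoidalCategory.whiskerLeft_comp, tr_comp, MonoidalCategory.whiskerLeft_id])
  have hT2' : Ti' ≫ T' = 𝟙 _ := left_inv (by rw [← MonoidalCategory.whiskerLeft_comp, tr_comp', MonoidalCategory.whiskerLeft_id])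
  haveI : IsIso T := ⟨Ti, hT1, hT2⟩
  haveI : IsIso Ti := ⟨T, hT2, hT1⟩
  haveI : IsIso T' := ⟨Ti', hT1', hT2'⟩
  haveI : IsIso Ti' := ⟨T', hT2', hT1'⟩
  haveI : Flat p := by show Flat (pullback.fst A.hom At.hom); infer_instance
  haveI : Flat q := by show Flat (pullback.snd A.hom At.hom); infer_instance
  have hw : T' ≫ p = p := by
    show (A ◁ tr x).left ≫ (fst A At).left = (fst A At).left
    rw [← Over.comp_left, whiskerLeft_fst]
  have hw' : Ti' ≫ q = q ≫ Ti := by
    show (A ◁ tr x⁻¹).left ≫ (snd A At).left = (snd A At).left ≫ (tr x⁻¹).left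
    rw [← Over.comp_left, ← Over.comp_left, whiskerLeft_snd]
  have hPx : PicF.IsInvertible Px := ((hasCls_clsMod (X := (A ⊗ At).left) hP).pullback _).1
  obtain ⟨_, _, _⟩ := exact_pullback p
  obtain ⟨_, _, _⟩ := exact_pullback q
  obtain ⟨_, _, _⟩ := exact_pullback T
  obtain ⟨_, _, _⟩ := exact_pullback Ti
  obtain ⟨_, _, _⟩ := exact_pullback T'
  obtain ⟨_, _, _⟩ := exact_pullback Ti'
  obtain ⟨_, _, _⟩ := exact_tF' hP
  obtain ⟨_, _, _⟩ := exact_tF' hPx
  let F1 := (Euler.tF Px ⋙ Scheme.Modules.pullback p) ⋙ Euler.tF P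
  let F2 := Scheme.Modules.pullback p ⋙ Euler.tF P
  obtain ⟨_, _, _⟩ := ((exact_tF' hPx).comp (exact_pullback p)).comp (exact_tF' hP)
  obtain ⟨_, _, _⟩ := (exact_pullback p).comp (exact_tF' hP)
  obtain ⟨_, _, _⟩ := (exact_tF' hPx).comp (exact_pullback p)
  obtain ⟨a1⟩ := nonempty_ltensor_iso Px
  obtain ⟨a2⟩ := DualRing.nonempty_lpull_flat p
  obtain ⟨a3⟩ := nonempty_ltensor_iso P
  obtain ⟨a4⟩ := DualRing.nonempty_lpull_flat T
  obtain ⟨adj⟩ := KInj.nonempty_mapDerivedCategory_adj_totalRightDerived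
    (Scheme.Modules.pullbackPushforwardAdjunction q)
  obtain ⟨b⟩ := nonempty_commute adj (U := Scheme.Modules.pullback T') (U' := Scheme.Modules.pullback Ti')
    (V := Scheme.Modules.pullback T) (V' := Scheme.Modules.pullback Ti)
    (pullInv hT2') (pullInv hT1') (pullInv hT2) (pullInv hT1) (pullSquare hw')
  obtain ⟨m⟩ := nonempty_pull_tr_right hφ hP hPξ x
  let c : F1 ≅ F2 ⋙ Scheme.Modules.pullback T' :=
    Functor.isoWhiskerRight (tFPull p Px) _ ≪≫ Functor.associator _ _ _ ≪≫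
      Functor.isoWhiskerLeft _ (tFComp m.symm) ≪≫
      Functor.isoWhiskerRight ((Scheme.Modules.pullbackCongr hw).symm ≪≫ (Scheme.Modules.pullbackComp T' p).symm) _ ≪≫
      Functor.associator _ _ _ ≪≫ Functor.isoWhiskerLeft _ (tFPull T' P).symm ≪≫ (Functor.associator _ _ _).symm
  let l1 : DCoh.LTensorMod Px ⋙ DCoh.Lpull p ⋙ DCoh.LTensorMod P ≅ F1.mapDerivedCategory :=
    Functor.isoWhiskerRight a1 _ ≪≫ Functor.isoWhiskerLeft _ (Functor.isoWhiskerRight a2 _) ≪≫
      Functor.isoWhiskerLeft _ (Functor.isoWhiskerLeft _ a3) ≪≫ (Functor.associator _ _ _).symm ≪≫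
      Functor.isoWhiskerRight (DerCat.mapDerivedCompIso _ _ (Euler.tF Px ⋙ Scheme.Modules.pullback p) (Iso.refl _)) _ ≪≫
      DerCat.mapDerivedCompIso _ _ F1 (Iso.refl _)
  let l2 : DCoh.Lpull p ⋙ DCoh.LTensorMod P ≅ F2.mapDerivedCategory :=
    Functor.isoWhiskerRight a2 _ ≪≫ Functor.isoWhiskerLeft _ a3 ≪≫ DerCat.mapDerivedCompIso _ _ F2 (Iso.refl _)
  let l3 : F1.mapDerivedCategory ≅ F2.mapDerivedCategory ⋙ (Scheme.Modules.pullback T').mapDerivedCategory :=
    (DerCat.mapDerivedCompIso F2 (Scheme.Modules.pullback T') F1 c.symm).symm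
  let R := DCoh.Rpush q
  exact ⟨Functor.isoWhiskerLeft _ (Functor.associator _ _ _).symm ≪≫ (Functor.associator _ _ _).symm ≪≫
    Functor.isoWhiskerRight (l1 ≪≫ l3 ≪≫ Functor.isoWhiskerRight l2.symm _) R ≪≫ Functor.associator _ _ _ ≪≫
    Functor.isoWhiskerLeft _ b ≪≫ (Functor.associator _ _ _).symm ≪≫
    Functor.isoWhiskerRight (Functor.associator _ _ _) _ ≪≫ Functor.isoWhiskerLeft _ a4.symm⟩

theorem nonempty_translate_twist (hP : PicF.IsInvertible P)
    (hPξ : AbDual.IsPoincareCl A At φ (PicF.cl P)) (x : 𝟙_ (Over (Spec (CommRingCat.of k))) ⟶ A)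
    [DCoh.HasLpull (fst A At).left] [DCoh.HasLTensorMod P] [DCoh.HasRpush (snd A At).left]
    [DCoh.HasLpull (tr x).left]
    [DCoh.HasLTensorMod ((Scheme.Modules.pullback (lift (toUnit At ≫ x⁻¹) (𝟙 At)).left).obj P)] :
    Nonempty (DCoh.Lpull (tr x).left ⋙
        (DCoh.Lpull (fst A At).left ⋙ DCoh.LTensorMod P ⋙ DCoh.Rpush (snd A At).left) ≅
      (DCoh.Lpull (fst A At).left ⋙ DCoh.LTensorMod P ⋙ DCoh.Rpush (snd A At).left) ⋙
        DCoh.LTensorMod ((Scheme.Modules.pullback (lift (toUnit At ≫ x⁻¹) (𝟙 At)).left).obj P)) := by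
  let p : (A ⊗ At).left ⟶ A.left := (fst A At).left
  let q : (A ⊗ At).left ⟶ At.left := (snd A At).left
  let T := (tr x).left
  let Ti := (tr x⁻¹).left
  let T' := (tr x ▷ At).left
  let Ti' := (tr x⁻¹ ▷ At).left
  let N := (Scheme.Modules.pullback (lift (toUnit At ≫ x⁻¹) (𝟙 At)).left).obj P
  have hT1 : T ≫ Ti = 𝟙 _ := left_inv (tr_comp x)
  have hT2 : Ti ≫ T = 𝟙 _ := left_inv (tr_comp' x)
  have hT1' : T' ≫ Ti' = 𝟙 _ := left_inv (by rw [← MonoidalCategory.comp_whiskerRight, tr_comp, MonoidalCategory.id_whiskerRight])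
  have hT2' : Ti' ≫ T' = 𝟙 _ := left_inv (by rw [← MonoidalCategory.comp_whiskerRight, tr_comp', MonoidalCategory.id_whiskerRight])
  haveI : IsIso T := ⟨Ti, hT1, hT2⟩
  haveI : IsIso T' := ⟨Ti', hT1', hT2'⟩
  haveI : IsIso Ti' := ⟨T', hT2', hT1'⟩
  haveI : Flat p := by show Flat (pullback.fst A.hom At.hom); infer_instance
  haveI : Flat q := by show Flat (pullback.snd A.hom At.hom); infer_instance
  have hw : p ≫ T = T' ≫ p := by
    show (fst A At).left ≫ (tr x).left = (tr x ▷ At).left ≫ (fst A At).left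
    rw [← Over.comp_left, ← Over.comp_left, whiskerRight_fst]
  have hw' : Ti' ≫ q = q := by
    show (tr x⁻¹ ▷ At).left ≫ (snd A At).left = (snd A At).left
    rw [← Over.comp_left, whiskerRight_snd]
  have hN : PicF.IsInvertible N := ((hasCls_clsMod (X := (A ⊗ At).left) hP).pullback _).1
  obtain ⟨N', hN', ⟨n1⟩, ⟨n2⟩⟩ := exists_tensor_inverse hN
  let qN := (Scheme.Modules.pullback q).obj N
  let qN' := (Scheme.Modules.pullback q).obj N'
  have hqN : PicF.IsInvertible qN := ((hasCls_clsMod hN).pullback _).1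
  have hqN' : PicF.IsInvertible qN' := ((hasCls_clsMod hN').pullback _).1
  let r1 : ((DCoh.tensorBi (X := (A ⊗ At).left)).obj qN).obj qN' ≅ Coh.structureModule (A ⊗ At).left :=
    (OX.pullTensorIso q N N').symm ≪≫ (Scheme.Modules.pullback q).mapIso n1 ≪≫
      Classical.choice (((hasCls_structureModule At.left).pullback q).iso (hasCls_structureModule _) (map_one _))
  let r2 : ((DCoh.tensorBi (X := (A ⊗ At).left)).obj qN').obj qN ≅ Coh.structureModule (A ⊗ At).left :=
    (OX.pullTensorIso q N' N).symm ≪≫ (Scheme.Modules.pullback q).mapIso n2 ≪≫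
      Classical.choice (((hasCls_structureModule At.left).pullback q).iso (hasCls_structureModule _) (map_one _))
  obtain ⟨_, _, _⟩ := exact_pullback p
  obtain ⟨_, _, _⟩ := exact_pullback q
  obtain ⟨_, _, _⟩ := exact_pullback T
  obtain ⟨_, _, _⟩ := exact_tF' hP
  obtain ⟨_, _, _⟩ := exact_tF' hN
  obtain ⟨_, _, _⟩ := exact_tF' hN'
  let U := Euler.tF qN ⋙ Scheme.Modules.pullback T'
  let U' := Scheme.Modules.pullback Ti' ⋙ Euler.tF qN'
  obtain ⟨_, _, _⟩ := (exact_tF' hqN).comp (exact_pullback T')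
  obtain ⟨_, _, _⟩ := (exact_pullback Ti').comp (exact_tF' hqN')
  let F1 := (Scheme.Modules.pullback T ⋙ Scheme.Modules.pullback p) ⋙ Euler.tF P
  let F2 := Scheme.Modules.pullback p ⋙ Euler.tF P
  obtain ⟨_, _, _⟩ := ((exact_pullback T).comp (exact_pullback p)).comp (exact_tF' hP)
  obtain ⟨_, _, _⟩ := (exact_pullback p).comp (exact_tF' hP)
  obtain ⟨_, _, _⟩ := (exact_pullback T).comp (exact_pullback p)
  obtain ⟨a1⟩ := DualRing.nonempty_lpull_flat T
  obtain ⟨a2⟩ := DualRing.nonempty_lpull_flat p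
  obtain ⟨a3⟩ := nonempty_ltensor_iso P
  obtain ⟨a4⟩ := nonempty_ltensor_iso N
  obtain ⟨adj⟩ := KInj.nonempty_mapDerivedCategory_adj_totalRightDerived
    (Scheme.Modules.pullbackPushforwardAdjunction q)
  let eU : U ⋙ U' ≅ 𝟭 _ := Functor.associator _ _ _ ≪≫
    Functor.isoWhiskerLeft _ ((Functor.associator _ _ _).symm ≪≫ Functor.isoWhiskerRight (pullInv hT2') _ ≪≫
      Functor.leftUnitor _) ≪≫ tFComp r1 ≪≫ tFId
  let eU' : U' ⋙ U ≅ 𝟭 _ := Functor.associator _ _ _ ≪≫
    Functor.isoWhiskerLeft _ ((Functor.associator _ _ _).symm ≪≫ Functor.isoWhiskerRight (tFComp r2 ≪≫ tFId) _ ≪≫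
      Functor.leftUnitor _) ≪≫ pullInv hT1'
  let cU : Scheme.Modules.pullback q ⋙ U' ≅ Euler.tF N' ⋙ Scheme.Modules.pullback q :=
    (Functor.associator _ _ _).symm ≪≫ Functor.isoWhiskerRight (Scheme.Modules.pullbackComp Ti' q ≪≫
      Scheme.Modules.pullbackCongr hw') _ ≪≫ (tFPull q N').symm
  obtain ⟨b⟩ := nonempty_commute adj (U := U) (U' := U') (V := Euler.tF N) (V' := Euler.tF N')
    eU eU' (tFComp n1 ≪≫ tFId) (tFComp n2 ≪≫ tFId) cU
  obtain ⟨m⟩ := nonempty_pull_tr_left hP hPξ x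
  let m' : (Scheme.Modules.pullback T').obj ((Scheme.Modules.pullback Ti').obj P) ≅ P := (pullInv hT1').app P
  let c : F1 ≅ F2 ⋙ U :=
    Functor.isoWhiskerRight (pullSquare hw) _ ≪≫ Functor.associator _ _ _ ≪≫
      Functor.isoWhiskerLeft _ (Functor.isoWhiskerLeft _ (tFCongr m'.symm) ≪≫ (tFPull T' _).symm ≪≫
        Functor.isoWhiskerRight (tFCongr m ≪≫ (tFComp (Iso.refl _)).symm) _ ≪≫ Functor.associator _ _ _) ≪≫
      (Functor.associator _ _ _).symm
  let l1 : DCoh.Lpull T ⋙ DCoh.Lpull p ⋙ DCoh.LTensorMod P ≅ F1.mapDerivedCategory :=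
    Functor.isoWhiskerRight a1 _ ≪≫ Functor.isoWhiskerLeft _ (Functor.isoWhiskerRight a2 _) ≪≫
      Functor.isoWhiskerLeft _ (Functor.isoWhiskerLeft _ a3) ≪≫ (Functor.associator _ _ _).symm ≪≫
      Functor.isoWhiskerRight (DerCat.mapDerivedCompIso _ _ (Scheme.Modules.pullback T ⋙ Scheme.Modules.pullback p) (Iso.refl _)) _ ≪≫
      DerCat.mapDerivedCompIso _ _ F1 (Iso.refl _)
  let l2 : DCoh.Lpull p ⋙ DCoh.LTensorMod P ≅ F2.mapDerivedCategory :=
    Functor.isoWhiskerRight a2 _ ≪≫ Functor.isoWhiskerLeft _ a3 ≪≫ DerCat.mapDerivedCompIso _ _ F2 (Iso.refl _)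
  let l3 : F1.mapDerivedCategory ≅ F2.mapDerivedCategory ⋙ U.mapDerivedCategory :=
    (DerCat.mapDerivedCompIso F2 U F1 c.symm).symm
  let R := DCoh.Rpush q
  exact ⟨Functor.isoWhiskerLeft _ (Functor.associator _ _ _).symm ≪≫ (Functor.associator _ _ _).symm ≪≫
    Functor.isoWhiskerRight (l1 ≪≫ l3 ≪≫ Functor.isoWhiskerRight l2.symm _) R ≪≫ Functor.associator _ _ _ ≪≫
    Functor.isoWhiskerLeft _ b ≪≫ (Functor.associator _ _ _).symm ≪≫
    Functor.isoWhiskerRight (Functor.associator _ _ _) _ ≪≫ Functor.isoWhiskerLeft _ a4.symm⟩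

end

end GrothLib.FMTrans15
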