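import Groth.Agent.Lib.FinSupp15.Twist
import Groth.Agent.Lib.DualRing.SchemePull
import Groth.Agent.Lib.DerCat.MapAdj
import Groth.Agent.Lib.OX.AffineHomotopy
import Groth.Agent.Lib.FunMor20.Datum
import Groth.Agent.Lib.OX.PullbackTensor

/-!
# Exact functors of modules and their derived functors

The derived twist by an invertible module is the derived functor of the exact twist; autoequivalences compatible
with a flat pullback commute with the derived pushforward.
-/

set_option autoImplicit false
set_option linter.all false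
set_option backward.isDefEq.respectTransparency false
set_option maxHeartbeats 1000000

universe u

open CategoryTheory CategoryTheory.Limits AlgebraicGeometry

attribute [local instance] HasDerivedCategory.standard

noncomputable section

namespace GrothLib.FMTrans15

section

variable {A : Type*} [Category A] [Abelian A] [HasDerivedCategory A]
  {B : Type*} [Category B] [Abelian B] [HasDerivedCategory B]

/-- An exact functor, packaged. -/
structure Exact (F : A ⥤ B) : Prop where
  additive : F.Additive
  left : PreservesFiniteLimits F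
  right : PreservesFiniteColimits F

theorem Exact.of_iso {F G : A ⥤ B} (h : Exact F) (e : F ≅ G) : Exact G := by
  obtain ⟨h1, h2, h3⟩ := h
  haveI := h1
  haveI := h2
  haveI := h3
  exact ⟨Functor.additive_of_iso e, preservesFiniteLimits_of_natIso e, preservesFiniteColimits_of_natIso e⟩

/-- Isomorphic exact functors have isomorphic derived functors. -/
def mapDerivedNatIso {F G : A ⥤ B} [F.Additive] [G.Additive] [PreservesFiniteLimits F] [PreservesFiniteColimits F]
    [PreservesFiniteLimits G] [PreservesFiniteColimits G] (e : F ≅ G) :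
    F.mapDerivedCategory ≅ G.mapDerivedCategory :=
  (Functor.leftUnitor _).symm ≪≫ Functor.isoWhiskerRight OX.mapDerivedIdIso.symm _ ≪≫
    DerCat.mapDerivedCompIso (𝟭 A) F G (Functor.leftUnitor F ≪≫ e)

/-- A right derived functor adjoint to `L` commutes with autoequivalences intertwined by `L`. -/
theorem nonempty_commute {L : A ⥤ B} [L.Additive] [PreservesFiniteLimits L] [PreservesFiniteColimits L]
    {R : DerivedCategory B ⥤ DerivedCategory A} (adj : L.mapDerivedCategory ⊣ R)
    {U U' : B ⥤ B} {V V' : A ⥤ A} [U.Additive] [U'.Additive] [V.Additive] [V'.Additive]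
    [PreservesFiniteLimits U] [PreservesFiniteColimits U] [PreservesFiniteLimits U'] [PreservesFiniteColimits U']
    [PreservesFiniteLimits V] [PreservesFiniteColimits V] [PreservesFiniteLimits V'] [PreservesFiniteColimits V']
    (eU : U ⋙ U' ≅ 𝟭 B) (eU' : U' ⋙ U ≅ 𝟭 B) (eV : V ⋙ V' ≅ 𝟭 A) (eV' : V' ⋙ V ≅ 𝟭 A)
    (c : L ⋙ U' ≅ V' ⋙ L) : Nonempty (U.mapDerivedCategory ⋙ R ≅ R ⋙ V.mapDerivedCategory) := by
  let EU : DerivedCategory B ≌ DerivedCategory B := CategoryTheory.Equivalence.mk U'.mapDerivedCategory
    U.mapDerivedCategory (DerCat.mapDerivedCompIso U' U (𝟭 B) eU' ≪≫ OX.mapDerivedIdIso).symm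
    (DerCat.mapDerivedCompIso U U' (𝟭 B) eU ≪≫ OX.mapDerivedIdIso)
  let EV : DerivedCategory A ≌ DerivedCategory A := CategoryTheory.Equivalence.mk V'.mapDerivedCategory
    V.mapDerivedCategory (DerCat.mapDerivedCompIso V' V (𝟭 A) eV' ≪≫ OX.mapDerivedIdIso).symm
    (DerCat.mapDerivedCompIso V V' (𝟭 A) eV ≪≫ OX.mapDerivedIdIso)
  haveI : PreservesFiniteLimits (L ⋙ U') := comp_preservesFiniteLimits _ _
  haveI : PreservesFiniteColimits (L ⋙ U') := comp_preservesFiniteColimits _ _
  let a1 : L.mapDerivedCategory ⋙ U'.mapDerivedCategory ⊣ U.mapDerivedCategory ⋙ R := adj.comp EU.toAdjunction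
  let a2 : V'.mapDerivedCategory ⋙ L.mapDerivedCategory ⊣ R ⋙ V.mapDerivedCategory := EV.toAdjunction.comp adj
  let e : V'.mapDerivedCategory ⋙ L.mapDerivedCategory ≅ L.mapDerivedCategory ⋙ U'.mapDerivedCategory :=
    DerCat.mapDerivedCompIso V' L (L ⋙ U') c.symm ≪≫ (DerCat.mapDerivedCompIso L U' (L ⋙ U') (Iso.refl _)).symm
  exact ⟨a1.rightAdjointUniq (a2.ofNatIsoLeft e)⟩

end

variable {X Y : Scheme.{u}}

theorem exact_pullback (f : X ⟶ Y) [Flat f] : Exact (Scheme.Modules.pullback f) :=
  ⟨OX.additive_pullback f, OX.preservesFiniteLimits_pullback_of_flat f, inferInstance⟩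

theorem exact_tF' {N : X.Modules} (hN : PicF.IsInvertible N) : Exact (Euler.tF N) :=
  ⟨inferInstance, (FinSupp15.exact_tF hN).1, (FinSupp15.exact_tF hN).2⟩

/-- The derived twist by an invertible module is the derived functor of the twist. -/
theorem nonempty_ltensor_iso (N : X.Modules) [DCoh.HasLTensorMod N] [PreservesFiniteLimits (Euler.tF N)]
    [PreservesFiniteColimits (Euler.tF N)] :
    Nonempty (DCoh.LTensorMod N ≅ (Euler.tF N).mapDerivedCategory) := by
  haveI : PreservesFiniteLimits (DCoh.tensorRightMod N) :=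
    preservesFiniteLimits_of_natIso (OX.tensorRightModIso N).symm
  haveI : PreservesFiniteColimits (DCoh.tensorRightMod N) :=
    preservesFiniteColimits_of_natIso (OX.tensorRightModIso N).symm
  let W := HomotopyCategory.quasiIso X.Modules (ComplexShape.up ℤ)
  let T := DCoh.tensorRightMod N
  haveI : T.mapDerivedCategory.IsLeftDerivedFunctor T.mapDerivedCategoryFactorsh.hom W :=
    Functor.isLeftDerivedFunctor_of_inverts W T.mapDerivedCategory T.mapDerivedCategoryFactorsh
  exact ⟨Functor.leftDerivedUnique _ _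
    ((T.mapHomotopyCategory (ComplexShape.up ℤ) ⋙ DerivedCategory.Qh).totalLeftDerivedCounit DerivedCategory.Qh W)
    T.mapDerivedCategoryFactorsh.hom W ≪≫ mapDerivedNatIso (OX.tensorRightModIso N)⟩

/-- Twists compose by the tensor product. -/
def tFComp {M N P : X.Modules} (e : ((DCoh.tensorBi (X := X)).obj M).obj N ≅ P) :
    Euler.tF M ⋙ Euler.tF N ≅ Euler.tF P :=
  NatIso.ofComponents
    (fun E => OX.tensorAssoc E M N ≪≫ ((DCoh.tensorBi (X := X)).obj E).mapIso e)
    (fun {E E'} f => by
      have h1 := OX.tensorAssoc_natural₁ f M N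
      have h2 := ((DCoh.tensorBi (X := X)).map f).naturality e.hom
      simp only [Functor.comp_map, Iso.trans_hom, Functor.mapIso_hom]
      erw [reassoc_of% h1, ← h2]
      simp only [Category.assoc]
      rfl)

/-- The twist by the structure sheaf. -/
def tFId : Euler.tF (Coh.structureModule X) ≅ 𝟭 X.Modules :=
  NatIso.ofComponents (fun E => Euler.tFUnitIso E) (fun {E E'} f => by
    have h1 := NatTrans.congr_app ((OX.tensorBraiding (X := X)).inv.naturality f) (Coh.structureModule X)
    have h2 := FunMor20.tensorUnitLeftIso_natural f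
    simp only [Euler.tFUnitIso, Iso.trans_hom, Iso.symm_hom, Functor.id_map]
    refine (Category.assoc _ _ _).symm.trans ((congrArg (· ≫ _) h1).trans ?_)
    exact (Category.assoc _ _ _).trans ((congrArg (_ ≫ ·) h2).trans (Category.assoc _ _ _).symm))

/-- Twists commute with pullback. -/
def tFPull (f : X ⟶ Y) (N : Y.Modules) :
    Euler.tF N ⋙ Scheme.Modules.pullback f ≅
      Scheme.Modules.pullback f ⋙ Euler.tF ((Scheme.Modules.pullback f).obj N) :=
  NatIso.ofComponents (fun E => OX.pullTensorIso f E N) (fun {E E'} a => OX.pullTensorIso_natural₁ f a N)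

/-- Twists by isomorphic modules. -/
def tFCongr {M N : X.Modules} (e : M ≅ N) : Euler.tF M ≅ Euler.tF N :=
  (DCoh.tensorBi (X := X)).flip.mapIso e

/-- Pullback along a composite, in a commutative square. -/
def pullSquare {Z W : Scheme.{u}} {f : X ⟶ Y} {g : Y ⟶ Z} {f' : X ⟶ W} {g' : W ⟶ Z} (h : f ≫ g = f' ≫ g') :
    Scheme.Modules.pullback g ⋙ Scheme.Modules.pullback f ≅
      Scheme.Modules.pullback g' ⋙ Scheme.Modules.pullback f' :=
  Scheme.Modules.pullbackComp f g ≪≫ Scheme.Modules.pullbackCongr h ≪≫ (Scheme.Modules.pullbackComp f' g').symm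

/-- Pullbacks along inverse morphisms. -/
def pullInv {f : X ⟶ Y} {g : Y ⟶ X} (h : f ≫ g = 𝟙 X) :
    Scheme.Modules.pullback g ⋙ Scheme.Modules.pullback f ≅ 𝟭 X.Modules :=
  Scheme.Modules.pullbackComp f g ≪≫ Scheme.Modules.pullbackCongr h ≪≫ Scheme.Modules.pullbackId X

end GrothLib.FMTrans15
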